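import Groth.Agent.HilbPoly.HN2
import Groth.Agent.PnCoh.Finite.TwistInv
import Groth.Agent.PruferCoh.Closed
import Groth.Agent.Lib.AVAmple

/-!
# Hilbert polynomials on projective space, at integer arguments
-/

set_option linter.style.haveILetI false
set_option linter.unusedSectionVars false
set_option backward.isDefEq.respectTransparency false
set_option backward.isDefEq.respectTransparency.types false
set_option maxHeartbeats 400000

universe u

open CategoryTheory CategoryTheory.Limits AlgebraicGeometry Polynomial StabCat TopologicalSpace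

noncomputable section

namespace Groth.Agent.HilbPoly

open Groth.Agent

variable (n : ℕ) (k : Type u) [Field k]

local notation "P" => CohB1.ProjSpace n k
local notation "O'" => Twist.twistProjSpace n k

theorem isAmple_twistProjSpace_one : CohB1.IsAmple (O' 1) := by
  classical
  let T : Finset (MvPolynomial (Fin (n + 1)) k) := Finset.univ.image MvPolynomial.X
  refine AmpleX.isAmple_twist_one _ T (fun g hg => ?_) ?_
  · obtain ⟨i, -, rfl⟩ := Finset.mem_image.1 hg
    exact ProjPt.X_mem i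
  · refine Proj.iSup_basicOpen_eq_top _ _ ((SegreX.irrelevant_le_span n k).trans ?_)
    refine Ideal.span_mono ?_
    rintro _ ⟨i, rfl⟩
    exact ⟨⟨_, Finset.mem_image.2 ⟨i, Finset.mem_univ _, rfl⟩⟩, rfl⟩


lemma nonempty_pow (m : ℕ) : Nonempty (O' (m : ℤ) ≅ CohB1.tensorPow (O' 1) m) :=
  PnCoh.Finite.twist_tensorPow_iso (𝒜 := CohB1.polyGrading n k) (PruferCoh.Xs n k)
    (PruferCoh.Xs_mem n k) (PruferCoh.iSup_Xs n k) m

lemma nonempty_add (a b : ℤ) : Nonempty (CohB1.tensorMod (O' a) (O' b) ≅ O' (a + b)) :=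
  PnCoh.Finite.twist_tensor_iso (𝒜 := CohB1.polyGrading n k) (PruferCoh.Xs n k)
    (PruferCoh.Xs_mem n k) (PruferCoh.iSup_Xs n k) a b

lemma reindex_tensor {Z : Scheme.{u}} (G A : Z.Modules) {B C D : Z.Modules} (e : C ≅ B)
    (e' : CohB1.tensorMod A C ≅ D) :
    Nonempty (CohB1.tensorMod (CohB1.tensorMod G A) B ≅ CohB1.tensorMod G D) :=
  ⟨(AmpleVan.twComp A B).app G ≪≫ (DCoh.tensorBi.obj G).mapIso ((DCoh.tensorBi.obj A).mapIso e.symm ≪≫ e')⟩

lemma tensor_congr {Z : Scheme.{u}} (G : Z.Modules) {A B : Z.Modules} (e : A ≅ B) :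
    Nonempty (CohB1.tensorMod G A ≅ CohB1.tensorMod G B) := ⟨(DCoh.tensorBi.obj G).mapIso e⟩

lemma nonempty_twist_pow (G : (P).Modules) (a : ℤ) (m : ℕ) :
    Nonempty (CohB1.tensorMod (CohB1.tensorMod G (O' a)) (CohB1.tensorPow (O' 1) m) ≅
      CohB1.tensorMod G (O' (a + (m : ℤ)))) := by
  obtain ⟨e⟩ := nonempty_pow n k m
  obtain ⟨e'⟩ := nonempty_add n k a m
  exact reindex_tensor G _ e e'

variable {n k}

lemma isCoh_twist' [IsProper ((P) ↘ Spec (CommRingCat.of k))] {G : (P).Modules} (hG : Coh.IsCoh G) (a : ℤ) :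
    Coh.IsCoh (CohB1.tensorMod G (O' a)) := by
  haveI : IsNoetherian (P) := CurveCohLib.isNoetherian_of_proper (k := k)
  exact AmpleVan.isCoh_tensor hG (AmpleVan.isCoh_invertible
    (PnCoh.Finite.isInvertible_twist (𝒜 := CohB1.polyGrading n k) (PruferCoh.Xs n k)
      (PruferCoh.Xs_mem n k) (PruferCoh.iSup_Xs n k) a))

/-- A Hilbert polynomial computes the Euler characteristics of all twists. -/
theorem euler_twist_eq [IsProper ((P) ↘ Spec (CommRingCat.of k))] {G : (P).Modules} (hG : Coh.IsCoh G)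
    {d : ℕ} (hd : topologicalKrullDim ↥(CohB1.support G) ≤ (d : WithBot ℕ∞)) {Q : ℚ[X]}
    (hQ : ShStab.IsHilbPoly k (P) (O' 1) G Q) (z : ℤ) :
    (Curv2.euler k (P) (CohB1.tensorMod G (O' z)) : ℚ) = Q.eval (z : ℚ) := by
  have hiso : ∀ {a : ℤ} {m : ℕ} {b : ℤ}, a + m = b →
      Curv2.euler k (P) (ShStab.twist (P) (O' 1) (CohB1.tensorMod G (O' a)) m) =
        Curv2.euler k (P) (CohB1.tensorMod G (O' b)) := by
    rintro a m b rfl
    exact (additive_euler k).iso _ _ (nonempty_twist_pow n k G a m)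
  have h0 : ∀ m : ℕ, (Curv2.euler k (P) (CohB1.tensorMod G (O' m)) : ℚ) = Q.eval (m : ℚ) := fun m => by
    obtain ⟨e⟩ := nonempty_pow n k m
    rw [← hQ m]
    exact_mod_cast (additive_euler k).iso _ _ (tensor_congr G e)
  obtain ⟨M, hM⟩ : ∃ M : ℕ, 0 ≤ z + M := ⟨(-z).toNat, by omega⟩
  obtain ⟨R, hR, -, -⟩ := exists_hilb (k := k) (isAmple_twistProjSpace_one n k).1
    (isCoh_twist' hG (-(M : ℤ)))
    ((H23.TopDim.dim_le_dim_of_subset (support_tensor_subset G (O' (-(M : ℤ))))).trans hd)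
  have key : R.comp (Polynomial.X + Polynomial.C (M : ℚ)) = Q := poly_ext 0 fun m _ => by
    rw [eval_comp, eval_add, eval_X, eval_C, ← h0 m, show ((m : ℚ) + (M : ℚ)) = ((m + M : ℕ) : ℚ) by push_cast; rfl,
      ← hR (m + M)]
    exact_mod_cast hiso (by push_cast; ring)
  rw [← key, eval_comp, eval_add, eval_X, eval_C]
  obtain ⟨m, hm⟩ := Int.eq_ofNat_of_zero_le hM
  rw [show ((z : ℚ) + (M : ℚ)) = (m : ℚ) by exact_mod_cast hm, ← hR m]
  exact_mod_cast (hiso (show -(M : ℤ) + (m : ℤ) = z by omega)).symm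

theorem isHilbPoly_of_euler_twist [IsProper ((P) ↘ Spec (CommRingCat.of k))] {G : (P).Modules} {Q : ℚ[X]}
    (h : ∀ z : ℤ, (Curv2.euler k (P) (CohB1.tensorMod G (O' z)) : ℚ) = Q.eval (z : ℚ)) :
    ShStab.IsHilbPoly k (P) (O' 1) G Q := fun m => by
  obtain ⟨e⟩ := nonempty_pow n k m
  have h' : Curv2.euler k (P) (ShStab.twist (P) (O' 1) G m) = Curv2.euler k (P) (CohB1.tensorMod G (O' m)) :=
    (additive_euler k).iso _ _ (tensor_congr G e.symm)
  rw [h', h m]
  simp

end Groth.Agent.HilbPoly
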