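import Mathlib.Order.RelSeries
import Mathlib.Data.Fintype.Sort
import Mathlib.Order.Preorder.Chain

/-!
# Finite chains and series
-/

namespace Groth.Agent.HilbPoly

variable {α : Type*} [PartialOrder α]

theorem consecutive_of_series [DecidableEq α] (s : LTSeries α) {A B : α} (hA : A ∈ Finset.univ.image s.toFun)
    (hB : B ∈ Finset.univ.image s.toFun) (hAB : A < B)
    (h : ∀ D ∈ Finset.univ.image s.toFun, ¬ (A < D ∧ D < B)) :
    ∃ i : Fin s.length, A = s i.castSucc ∧ B = s i.succ := by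
  obtain ⟨a, -, rfl⟩ := Finset.mem_image.1 hA
  obtain ⟨b, -, rfl⟩ := Finset.mem_image.1 hB
  have hab : a < b := s.strictMono.lt_iff_lt.1 hAB
  have hal : a.val < s.length := by have := b.isLt; have := (Fin.lt_def.1 hab); omega
  refine ⟨⟨a.val, hal⟩, rfl, ?_⟩
  by_contra hne
  refine h (s (Fin.succ ⟨a.val, hal⟩)) (Finset.mem_image.2 ⟨_, Finset.mem_univ _, rfl⟩)
    ⟨s.strictMono (Fin.lt_def.2 (Nat.lt_succ_self _)), s.strictMono (lt_of_le_of_ne (Fin.le_def.2 ?_) fun he => hne ?_)⟩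
  · exact Fin.lt_def.1 hab
  · show s.toFun b = s.toFun _
    rw [he]

theorem exists_series_of_chain [OrderBot α] [OrderTop α] [DecidableEq α] (C : Finset α)
    (hC : IsChain (fun a b : α => a ≤ b) (↑C : Set α)) (hbot : ⊥ ∈ C) (htop : ⊤ ∈ C) :
    ∃ s : LTSeries α, s.head = ⊥ ∧ s.last = ⊤ ∧ Finset.univ.image s.toFun = C ∧
      ∀ i : Fin s.length, ∀ D ∈ C, ¬ (s i.castSucc < D ∧ D < s i.succ) := by
  classical
  letI : LinearOrder {x // x ∈ C} :=
    { Subtype.partialOrder _ with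
      le_total := fun a b => by
        rcases eq_or_ne a.1 b.1 with h | h
        · exact Or.inl h.le
        · exact hC a.2 b.2 h
      toDecidableLE := Classical.decRel _ }
  obtain ⟨n, hn⟩ : ∃ n, Fintype.card {x // x ∈ C} = n + 1 :=
    ⟨_, (Nat.succ_pred_eq_of_pos (Fintype.card_pos_iff.2 ⟨⟨⊥, hbot⟩⟩)).symm⟩
  let e : Fin (n + 1) ≃o {x // x ∈ C} := monoEquivOfFin _ hn
  let s : LTSeries α :=
    { length := n
      toFun := fun i => (e i).1
      step := fun i => by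
        show (e i.castSucc).1 < (e i.succ).1
        exact e.strictMono Fin.castSucc_lt_succ }
  refine ⟨s, le_bot_iff.1 ?_, top_le_iff.1 ?_, ?_, fun i D hD h => ?_⟩
  · show (e 0).1 ≤ ⊥
    have h : e 0 ≤ ⟨⊥, hbot⟩ := by
      rw [← e.apply_symm_apply ⟨⊥, hbot⟩]
      exact e.monotone (Fin.zero_le _)
    exact h
  · show ⊤ ≤ (e (Fin.last n)).1
    have h : (⟨⊤, htop⟩ : {x // x ∈ C}) ≤ e (Fin.last n) := by
      rw [← e.apply_symm_apply ⟨⊤, htop⟩]
      exact e.monotone (Fin.le_last _)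
    exact h
  · ext x
    refine ⟨fun h => ?_, fun h => Finset.mem_image.2 ⟨e.symm ⟨x, h⟩, Finset.mem_univ _, ?_⟩⟩
    · obtain ⟨i, -, rfl⟩ := Finset.mem_image.1 h
      exact (e i).2
    · show (e _).1 = x
      rw [e.apply_symm_apply]
  · obtain ⟨j, hj⟩ := e.surjective ⟨D, hD⟩
    have h1 : e i.castSucc < e j := by rw [hj]; exact h.1
    have h2 : e j < e i.succ := by rw [hj]; exact h.2
    have a := Fin.lt_def.1 (e.lt_iff_lt.1 h1)
    have b := Fin.lt_def.1 (e.lt_iff_lt.1 h2)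
    simp only [Fin.val_castSucc, Fin.val_succ] at a b
    omega

end Groth.Agent.HilbPoly
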