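import Groth.Agent.HilbPoly.MaxDestab
import Groth.Agent.HilbPoly.JH

/-!
# Harder–Narasimhan filtrations
-/

set_option linter.style.haveILetI false
set_option linter.unusedSectionVars false
set_option backward.isDefEq.respectTransparency false
set_option backward.isDefEq.respectTransparency.types false

universe u

open CategoryTheory CategoryTheory.Limits AlgebraicGeometry Polynomial StabCat TopologicalSpace

noncomputable section

namespace Groth.Agent.HilbPoly

open Groth.Agent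

variable {X : Scheme.{u}} {k : Type u} [Field k] [X.Over (Spec (CommRingCat.of k))]
  [IsProper (X ↘ Spec (CommRingCat.of k))] {L : X.Modules} {d : ℕ} {E : X.Modules}

namespace HN

lemma alpha_sub (P Q : ℚ[X]) : alpha d (P - Q) = alpha d P - alpha d Q := by
  simp only [alpha, Polynomial.coeff_sub]; ring

/-- A coherent module of positive top multiplicity has full dimension. -/
lemma dim_eq_of_alpha_pos (hL : CohB1.IsAmple L) {W : X.Modules} (hW : Coh.IsCoh W)
    (hdW : topologicalKrullDim ↥(CohB1.support W) ≤ (d : WithBot ℕ∞)) {q : ℚ[X]}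
    (hq : ShStab.IsHilbPoly k X L W q) (hα : 0 < alpha d q) :
    topologicalKrullDim ↥(CohB1.support W) = (d : WithBot ℕ∞) := by
  haveI : IsNoetherian X := CurveCohLib.isNoetherian_of_proper (k := k)
  refine le_antisymm hdW (le_of_not_gt fun hlt => ?_)
  rw [(hilb_props hL.1 hW hdW hq).2] at hα
  have : mult k L d W = 0 := iterD_eq_zero d (additive_euler k) _ List.length_replicate
    (fun N hN => (List.eq_of_mem_replicate hN) ▸ hL.1) W hW hlt
  rw [this] at hα
  simp at hα

variable (hL : CohB1.IsAmple L) (hE : Coh.IsCoh E) (hd : topologicalKrullDim ↥(CohB1.support E) ≤ (d : WithBot ℕ∞))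

local notation "𝐩" S:arg => hp k L ((S : Subobject E) : X.Modules)

include k in
lemma isCoh_bot (hE : Coh.IsCoh E) : Coh.IsCoh ((⊥ : Subobject E) : X.Modules) := by
  haveI : IsNoetherian X := CurveCohLib.isNoetherian_of_proper (k := k)
  exact isCoh_of_iso (IsZero.iso (isZero_kernel_of_mono (𝟙 E))
    ((isZero_zero _).of_iso Subobject.botCoeIsoZero)) (QCoh.isCoh_kernel hE hE (𝟙 E))

lemma isCoh_top (hE : Coh.IsCoh E) : Coh.IsCoh ((⊤ : Subobject E) : X.Modules) :=
  isCoh_of_iso (asIso (⊤ : Subobject E).arrow).symm hE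

lemma le_of_isZero_coker {S T : Subobject E} (h : S ≤ T) (hz : IsZero (cokernel (Subobject.ofLE S T h))) :
    T ≤ S := by
  haveI : Epi (Subobject.ofLE S T h) := Preadditive.epi_of_isZero_cokernel _ hz
  haveI := isIso_of_mono_of_epi (Subobject.ofLE S T h)
  exact Subobject.le_of_comm (inv (Subobject.ofLE S T h)) (by rw [IsIso.inv_comp_eq, Subobject.ofLE_arrow])

include hL hE hd

lemma eventually_pos_sub {S U : Subobject E} (hS : Coh.IsCoh (S : X.Modules)) (hU : Coh.IsCoh (U : X.Modules))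
    (h : S < U) : ∃ N : ℕ, ∀ m : ℕ, N ≤ m → 0 < (𝐩 U - 𝐩 S).eval (m : ℚ) := by
  obtain ⟨hC, hdC, hpC⟩ := cokernel_data (k := k) hL hS hU (dim_sub hL hE hd hU) (Subobject.ofLE S U h.le)
    (hp_sub (k := k) hL hE hd hS) (hp_sub (k := k) hL hE hd hU)
  exact hilb_eventually_pos hL hC (fun hz => h.not_ge (le_of_isZero_coker h.le hz)) hdC hpC

/-- The image of `U` in `T/S`. -/
lemma image_quot {S T U : Subobject E} (hS : Coh.IsCoh (S : X.Modules)) (hT : Coh.IsCoh (T : X.Modules))
    (hU : Coh.IsCoh (U : X.Modules)) (hST : S ≤ T) (hUT : U ≤ T) :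
    ∃ (K : Subobject E) (W : X.Modules) (w : W ⟶ cokernel (Subobject.ofLE S T hST))
      (π : (U : X.Modules) ⟶ W),
      Coh.IsCoh (K : X.Modules) ∧ K ≤ U ∧ K ≤ S ∧ (∀ V : Subobject E, V ≤ U → V ≤ S → V ≤ K) ∧ Mono w ∧ Coh.IsCoh W ∧
        π ≫ w = Subobject.ofLE U T hUT ≫ cokernel.π _ ∧
        ShStab.IsHilbPoly k X L W (𝐩 U - 𝐩 K) ∧ (IsZero W → U ≤ S) := by
  haveI : IsNoetherian X := CurveCohLib.isNoetherian_of_proper (k := k)
  obtain ⟨hQ, hdQ, -⟩ := cokernel_data (k := k) hL hS hT (dim_sub hL hE hd hT) (Subobject.ofLE S T hST)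
    (hp_sub (k := k) hL hE hd hS) (hp_sub (k := k) hL hE hd hT)
  let f : (U : X.Modules) ⟶ cokernel (Subobject.ofLE S T hST) := Subobject.ofLE U T hUT ≫ cokernel.π _
  obtain ⟨K, W, a, π, w, hw0, hfac, ha, hw, hπ, hSE, hKc, hWc⟩ := exists_factor (k := k) hU hQ f
  haveI := ha; haveI := hw; haveI := hπ
  have hdK := dim_mono hKc hU a (dim_sub hL hE hd hU)
  have hdW := dim_mono hWc hQ w hdQ
  obtain ⟨hKc', hK'⟩ := hp_mk (k := k) hL hE hd (a ≫ U.arrow) hKc (isHilbPoly_hp (k := k) hL hKc hdK)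
  have hsum : 𝐩 U = hp k L K + hp k L W := isHilbPoly_unique (hp_sub (k := k) hL hE hd hU)
    (hilb_add hL.1 hSE hKc hU hWc (isHilbPoly_hp (k := k) hL hKc hdK) (isHilbPoly_hp (k := k) hL hWc hdW))
  have hKS : Subobject.mk (a ≫ U.arrow) ≤ S := by
    have h0 : (a ≫ Subobject.ofLE U T hUT) ≫ cokernel.π (Subobject.ofLE S T hST) = 0 := by
      rw [Category.assoc, show Subobject.ofLE U T hUT ≫ cokernel.π _ = f from rfl, ← hfac, ← Category.assoc,
        hw0, Limits.zero_comp]
    refine Subobject.mk_le_of_comm (Abelian.monoLift _ _ h0) ?_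
    rw [← Subobject.ofLE_arrow hST, ← Category.assoc, Abelian.monoLift_comp, Category.assoc,
      Subobject.ofLE_arrow]
  refine ⟨Subobject.mk (a ≫ U.arrow), W, w, π, hKc', Subobject.mk_le_of_comm a rfl, hKS,
    fun V hVU hVS => ?_, hw, hWc, hfac, ?_, fun hz => ?_⟩
  · have h1 : Subobject.ofLE V U hVU ≫ π = 0 := by
      rw [← cancel_mono w, Category.assoc, hfac, Limits.zero_comp]
      show Subobject.ofLE V U hVU ≫ Subobject.ofLE U T hUT ≫ cokernel.π _ = 0
      rw [← Category.assoc, Subobject.ofLE_comp_ofLE, ← Subobject.ofLE_comp_ofLE V S T hVS hST, Category.assoc,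
        cokernel.condition, Limits.comp_zero]
    refine Subobject.le_mk_of_comm (hSE.exact.lift (Subobject.ofLE V U hVU) h1) ?_
    rw [← Category.assoc]
    exact (congrArg (· ≫ U.arrow) (hSE.exact.lift_f _ h1)).trans (Subobject.ofLE_arrow hVU)
  · rw [hK', hsum, add_sub_cancel_left]
    exact isHilbPoly_hp (k := k) hL hWc hdW
  · have h0 : Subobject.ofLE U T hUT ≫ cokernel.π (Subobject.ofLE S T hST) = 0 := by
      rw [show Subobject.ofLE U T hUT ≫ cokernel.π _ = f from rfl, ← hfac, hz.eq_of_tgt π 0, Limits.zero_comp]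
    refine Subobject.le_of_comm (Abelian.monoLift _ _ h0) ?_
    rw [← Subobject.ofLE_arrow hST, ← Category.assoc, Abelian.monoLift_comp, Subobject.ofLE_arrow]

/-- The preimage of a submodule of `T/S`. -/
lemma preimage_quot {S T : Subobject E} (hS : Coh.IsCoh (S : X.Modules)) (hT : Coh.IsCoh (T : X.Modules))
    (hST : S ≤ T) {W : X.Modules} (w : W ⟶ cokernel (Subobject.ofLE S T hST)) [Mono w] (hW : Coh.IsCoh W)
    {q : ℚ[X]} (hq : ShStab.IsHilbPoly k X L W q) :
    ∃ U : Subobject E, S ≤ U ∧ U ≤ T ∧ Coh.IsCoh (U : X.Modules) ∧ 𝐩 U = 𝐩 S + q ∧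
      (¬ IsZero W → S < U) ∧ (U = T → IsIso w) ∧
      ∀ (V : Subobject E) (hVT : V ≤ T) (φ : (V : X.Modules) ⟶ W),
        φ ≫ w = Subobject.ofLE V T hVT ≫ cokernel.π _ → V ≤ U := by
  haveI : IsNoetherian X := CurveCohLib.isNoetherian_of_proper (k := k)
  obtain ⟨hQc, hdQ, hpQ⟩ := cokernel_data (k := k) hL hS hT (dim_sub hL hE hd hT) (Subobject.ofLE S T hST)
    (hp_sub (k := k) hL hE hd hS) (hp_sub (k := k) hL hE hd hT)
  obtain ⟨hR, hdR, hpR⟩ := cokernel_data (k := k) hL hW hQc hdQ w hq hpQ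
  let π : (T : X.Modules) ⟶ cokernel w := cokernel.π (Subobject.ofLE S T hST) ≫ cokernel.π w
  haveI : Epi π := epi_comp _ _
  obtain ⟨hK, -, hpK⟩ := kernel_data (k := k) hL hT hR (dim_sub hL hE hd hT) π
    (hp_sub (k := k) hL hE hd hT) hpR
  obtain ⟨hU, hUp⟩ := hp_mk (k := k) hL hE hd (kernel.ι π ≫ T.arrow) hK hpK
  have hUq : 𝐩 (Subobject.mk (kernel.ι π ≫ T.arrow)) = 𝐩 S + q := by rw [hUp]; abel
  have hle : ∀ (V : Subobject E) (hVT : V ≤ T), Subobject.ofLE V T hVT ≫ π = 0 →
      V ≤ Subobject.mk (kernel.ι π ≫ T.arrow) := fun V hVT h =>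
    Subobject.le_mk_of_comm (kernel.lift π (Subobject.ofLE V T hVT) h)
      (by rw [kernel.lift_ι_assoc, Subobject.ofLE_arrow])
  have hSU := hle S hST (by simp [π])
  refine ⟨_, hSU, Subobject.mk_le_of_comm (kernel.ι π) rfl, hU, hUq,
    fun hW0 => lt_of_le_of_ne hSU fun he => ?_, fun heq => ?_, fun V hVT φ hφ => hle V hVT ?_⟩
  · rw [← he, left_eq_add] at hUq
    exact hW0 (isZero_of_hilb_zero hL hW (dim_mono hW hQc w hdQ) (hUq ▸ hq))
  · rw [heq] at hUq
    rw [show 𝐩 T - 𝐩 S - q = 0 by rw [hUq]; abel] at hpR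
    haveI : Epi w := Preadditive.epi_of_isZero_cokernel _ (isZero_of_hilb_zero hL hR hdR hpR)
    exact isIso_of_mono_of_epi w
  · show Subobject.ofLE V T hVT ≫ cokernel.π _ ≫ cokernel.π w = 0
    rw [← Category.assoc, ← hφ, Category.assoc, cokernel.condition, Limits.comp_zero]

omit hL hE hd

variable (k L d) in
/-- The quotient by `S` is pure, in terms of multiplicities. -/
def Good (S : Subobject E) : Prop :=
  Coh.IsCoh (S : X.Modules) ∧ ∀ U : Subobject E, S < U → Coh.IsCoh (U : X.Modules) → 0 < alpha d (𝐩 U - 𝐩 S)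

variable (k L d) in
/-- `T/S` is the maximal destabilising submodule of the quotient by `S`. -/
def Step (S T : Subobject E) : Prop :=
  S < T ∧ Coh.IsCoh (T : X.Modules) ∧ ∀ U : Subobject E, S < U → Coh.IsCoh (U : X.Modules) →
    RedLE d (𝐩 U - 𝐩 S) (𝐩 T - 𝐩 S) ∧ (RedEq d (𝐩 U - 𝐩 S) (𝐩 T - 𝐩 S) → U ≤ T)

include hL hE hd

lemma exists_step {S : Subobject E} (hS : Good k L d S) (hne : S ≠ ⊤) : ∃ T, Step k L d S T := by
  haveI : IsNoetherian X := CurveCohLib.isNoetherian_of_proper (k := k)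
  have hST : S ≤ ⊤ := le_top
  have htop := isCoh_top hE
  obtain ⟨hQc, hdQ, hpQ⟩ := cokernel_data (k := k) hL hS.1 htop (dim_sub hL hE hd htop)
    (Subobject.ofLE S ⊤ hST) (hp_sub (k := k) hL hE hd hS.1) (hp_sub (k := k) hL hE hd htop)
  have hQp : ShStab.IsPure X (cokernel (Subobject.ofLE S ⊤ hST)) d := by
    intro W w hw hW hW0
    haveI := hw
    have hdW := dim_mono hW hQc w hdQ
    obtain ⟨q, hq, -, -⟩ := exists_hilb (k := k) hL.1 hW hdW
    obtain ⟨U, -, -, hU, hUq, hlt, -, -⟩ := preimage_quot (k := k) hL hE hd hS.1 htop hST w hW hq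
    have := hS.2 U (hlt hW0) hU
    rw [hUq, add_sub_cancel_left] at this
    exact dim_eq_of_alpha_pos hL hW hdW hq this
  have hQ0 : ¬ IsZero (cokernel (Subobject.ofLE S ⊤ hST)) := fun hz =>
    hne (top_le_iff.1 (le_of_isZero_coker hST hz))
  obtain ⟨F, ι, hι, hF, hF0, hmax⟩ := exists_maxDestab (k := k) hL hQc hQ0 hQp
  haveI := hι
  obtain ⟨pF, hpF, -, -⟩ := exists_hilb (k := k) hL.1 hF (dim_mono hF hQc ι hdQ)
  obtain ⟨T, -, -, hT, hTq, hlt, -, hfac⟩ := preimage_quot (k := k) hL hE hd hS.1 htop hST ι hF hpF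
  refine ⟨T, hlt hF0, hT, fun U hSU hU => ?_⟩
  obtain ⟨K, W, w, π, -, -, hKS', hKS, hw, hW, hπ, hpW, hW0⟩ := image_quot (k := k) hL hE hd hS.1 htop hU hST le_top
  obtain rfl : K = S := le_antisymm hKS' (hKS S hSU.le le_rfl)
  obtain ⟨h1, h2⟩ := hmax W w hw hW (fun hz => hSU.not_ge (hW0 hz)) pF _ hpF hpW
  rw [hTq, add_sub_cancel_left]
  refine ⟨h1, fun h => ?_⟩
  obtain ⟨φ, hφ⟩ := h2 h
  exact hfac U le_top (π ≫ φ) (by rw [Category.assoc, hφ, hπ])

lemma step_unique {S T T' : Subobject E} (h : Step k L d S T) (h' : Step k L d S T') : T = T' := by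
  obtain ⟨a, b⟩ := h.2.2 T' h'.1 h'.2.1
  obtain ⟨a', b'⟩ := h'.2.2 T h.1 h.2.1
  exact le_antisymm (b' (redEq_of_le_le a' a)) (b (redEq_of_le_le a a'))

lemma good_bot (hp' : ShStab.IsPure X E d) : Good k L d (⊥ : Subobject E) := by
  refine ⟨isCoh_bot (k := k) hE, fun U hU hUc => ?_⟩
  have h0 : 𝐩 (⊥ : Subobject E) = 0 := isHilbPoly_unique
    (hp_sub (k := k) hL hE hd (isCoh_bot (k := k) hE)) (hilb_isZero ((isZero_zero _).of_iso Subobject.botCoeIsoZero))
  rw [h0, sub_zero]
  refine alpha_pos hL hUc (hp' _ U.arrow inferInstance hUc fun hz => ?_) (hp_sub (k := k) hL hE hd hUc)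
  exact hU.not_ge (Subobject.le_of_comm 0 (by rw [Limits.zero_comp]; exact hz.eq_of_src _ _))

/-- The quotient by a step is pure, and its submodules have smaller reduced polynomials. -/
lemma good_of_step {S T : Subobject E} (hS : Good k L d S) (h : Step k L d S T) :
    Good k L d T ∧ ∀ U : Subobject E, T < U → Coh.IsCoh (U : X.Modules) →
      RedLT d (𝐩 U - 𝐩 T) (𝐩 T - 𝐩 S) := by
  have key : ∀ U : Subobject E, T < U → Coh.IsCoh (U : X.Modules) → RedLT d (𝐩 U - 𝐩 S) (𝐩 T - 𝐩 S) :=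
    fun U hTU hU => (redLE_or_redLT d _ _).resolve_left fun hle =>
      hTU.not_ge ((h.2.2 U (h.1.trans hTU) hU).2 (redEq_of_le_le (h.2.2 U (h.1.trans hTU) hU).1 hle))
  refine ⟨⟨h.2.1, fun U hTU hU => ?_⟩, fun U hTU hU => ?_⟩
  · have h1 := (mono_data (k := k) hL hE hd h.2.1 hU hTU.le).1
    rw [alpha_sub]
    rcases h1.lt_or_eq with h2 | h2
    · linarith
    obtain ⟨N, hN⟩ := key U hTU hU
    obtain ⟨N', hN'⟩ := eventually_pos_sub (k := k) hL hE hd h.2.1 hU hTU
    have a := hN _ (le_max_left N N')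
    have b := hN' _ (le_max_right N N')
    have c := hS.2 T h.1 h.2.1
    simp only [eval_smul, smul_eq_mul, eval_sub, alpha_sub] at a b c
    rw [← h2] at a
    exact absurd (lt_of_mul_lt_mul_left a c.le) (by linarith)
  · obtain ⟨N, hN⟩ := key U hTU hU
    refine ⟨N, fun m hm => ?_⟩
    have a := hN m hm
    simp only [eval_smul, smul_eq_mul, eval_sub, alpha_sub] at a ⊢
    linarith

/-- A step gives a semistable factor. -/
lemma isSemistable_of_step {S T : Subobject E} (hS : Good k L d S) (h : Step k L d S T) :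
    ShStab.IsSemistable k X L (cokernel (Subobject.ofLE S T h.1.le)) d ∧
      ShStab.IsHilbPoly k X L (cokernel (Subobject.ofLE S T h.1.le)) (𝐩 T - 𝐩 S) := by
  obtain ⟨hQc, hdQ, hpQ⟩ := cokernel_data (k := k) hL hS.1 h.2.1 (dim_sub hL hE hd h.2.1)
    (Subobject.ofLE S T h.1.le) (hp_sub (k := k) hL hE hd hS.1) (hp_sub (k := k) hL hE hd h.2.1)
  refine ⟨⟨hQc, fun hz => h.1.not_ge (le_of_isZero_coker h.1.le hz), fun W w hw hW hW0 => ?_,
    fun W w hw hW hW0 _ q pQ hq hpQ' => ?_⟩, hpQ⟩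
  · haveI := hw
    have hdW := dim_mono hW hQc w hdQ
    obtain ⟨q, hq, -, -⟩ := exists_hilb (k := k) hL.1 hW hdW
    obtain ⟨U, -, -, hU, hUq, hlt, -, -⟩ := preimage_quot (k := k) hL hE hd hS.1 h.2.1 h.1.le w hW hq
    have := hS.2 U (hlt hW0) hU
    rw [hUq, add_sub_cancel_left] at this
    exact dim_eq_of_alpha_pos hL hW hdW hq this
  · haveI := hw
    obtain ⟨U, -, -, hU, hUq, hlt, -, -⟩ := preimage_quot (k := k) hL hE hd hS.1 h.2.1 h.1.le w hW hq
    have := (h.2.2 U (hlt hW0) hU).1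
    rw [hUq, add_sub_cancel_left] at this
    rwa [isHilbPoly_unique hpQ' hpQ]

omit hd in
theorem exists_HN (hp' : ShStab.IsPure X E d) :
    ∃ s : LTSeries (Subobject E), ShStab.IsHNFiltration k X L E d s := by
  classical
  haveI : IsNoetherian X := CurveCohLib.isNoetherian_of_proper (k := k)
  have hd := dim_le_of_isPure hp' hE
  let OK : Subobject E → Prop := fun S => ∃ s : LTSeries (Subobject E), s.head = S ∧ s.last = ⊤ ∧
    (∀ i : Fin s.length, ShStab.IsSemistable k X L (factor s i) d) ∧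
    (∀ i : Fin s.length, ShStab.IsHilbPoly k X L (factor s i) (𝐩 (s i.succ) - 𝐩 (s i.castSucc))) ∧
    (∀ i : Fin s.length, Coh.IsCoh ((s i.succ : Subobject E) : X.Modules)) ∧
    ∀ (i j : Fin s.length), i.val + 1 = j.val →
      RedLT d (𝐩 (s j.succ) - 𝐩 (s j.castSucc)) (𝐩 (s i.succ) - 𝐩 (s i.castSucc))
  have hall : ∀ S, Good k L d S → OK S := by
    by_contra hn
    push Not at hn
    obtain ⟨S, ⟨hS, hbad⟩, hmax⟩ := exists_maximal_coh hE (fun S => Good k L d S ∧ ¬ OK S)
      (fun _ h => h.1.1) hn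
    by_cases hne : S = ⊤
    · exact hbad ⟨RelSeries.singleton _ S, rfl, hne, fun i => i.elim0, fun i => i.elim0, fun i => i.elim0,
        fun i => i.elim0⟩
    obtain ⟨T, hT⟩ := exists_step hL hE hd hS hne
    obtain ⟨hTg, hTlt⟩ := good_of_step hL hE hd hS hT
    have hTok : OK T := by
      by_contra hT'
      exact hT.1.ne (hmax T ⟨hTg, hT'⟩ hT.1.le).symm
    obtain ⟨s, hh, hl, hss, hhp, hc, hdec⟩ := hTok
    let s' : LTSeries (Subobject E) :=
      { length := s.length + 1
        toFun := Fin.cons S s.toFun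
        step := fun i => by
          refine Fin.cases ?_ (fun j => ?_) i
          · show S < s.head
            rw [hh]; exact hT.1
          · exact s.step j }
    subst hh
    obtain ⟨h1, h2⟩ := isSemistable_of_step hL hE hd hS hT
    refine hbad ⟨s', rfl, hl, fun i => ?_, fun i => ?_, fun i => ?_, fun i j hij => ?_⟩
    · exact Fin.cases h1 (fun j => hss j) i
    · exact Fin.cases h2 (fun j => hhp j) i
    · exact Fin.cases hT.2.1 (fun j => hc j) i
    · induction j using Fin.cases with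
      | zero => simp at hij
      | succ b =>
        induction i using Fin.cases with
        | zero =>
          have hb : b.castSucc = 0 := Fin.ext (by simp at hij ⊢; omega)
          show RedLT d (𝐩 (s b.succ) - 𝐩 (s b.castSucc)) (𝐩 s.head - 𝐩 S)
          rw [show s b.castSucc = s.head by rw [hb]; rfl]
          refine hTlt _ ?_ (hc b)
          show s.head < s b.succ
          exact s.strictMono (by rw [← hb]; exact Fin.castSucc_lt_succ)
        | succ a => exact hdec a b (by simpa using hij)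
  obtain ⟨s, hh, hl, hss, hhp, -, hdec⟩ := hall ⊥ (good_bot hL hE hd hp')
  refine ⟨s, hh, hl, hss, fun i j hij p q hp hq => ?_⟩
  rw [isHilbPoly_unique hp (hhp i), isHilbPoly_unique hq (hhp j)]
  exact hdec i j hij

omit hd in
/-- In a Harder–Narasimhan filtration every term is a step over the preceding one. -/
theorem step_of_HN (hp' : ShStab.IsPure X E d) {s : LTSeries (Subobject E)}
    (hs : ShStab.IsHNFiltration k X L E d s) (i : Fin s.length) :
    Step k L d (s i.castSucc) (s i.succ) := by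
  haveI : IsNoetherian X := CurveCohLib.isNoetherian_of_proper (k := k)
  have hd := dim_le_of_isPure hp' hE
  obtain ⟨hh, hl, hss, hdec⟩ := hs
  have hcoh : ∀ n : ℕ, ∀ hn : n < s.length + 1, Coh.IsCoh ((s ⟨n, hn⟩ : Subobject E) : X.Modules) := by
    intro n
    induction n with
    | zero => intro hn; show Coh.IsCoh (s.head : X.Modules); rw [hh]; exact isCoh_bot (k := k) hE
    | succ n ih =>
      intro hn
      let i : Fin s.length := ⟨n, by omega⟩
      have h1 := ih (by omega)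
      have h3 : Coh.IsCoh (factor s i) := (hss i).1
      have hSE : (ShortComplex.mk (Subobject.ofLE (s i.castSucc) (s i.succ) (le_of_lt (s.step i))) (cokernel.π _)
          (cokernel.condition _)).ShortExact :=
        .mk' (ShortComplex.exact_of_g_is_cokernel _ (cokernelIsCokernel _)) inferInstance inferInstance
      exact mu_extension.isCoh_ext hSE h1 h3 (QCoh.isQCoh_X₂ hSE h1.1 h3.1)
  have hcast : ∀ a : Fin s.length, Coh.IsCoh ((s a.castSucc : Subobject E) : X.Modules) :=
    fun a => hcoh a.val (by omega)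
  have hsucc : ∀ a : Fin s.length, Coh.IsCoh ((s a.succ : Subobject E) : X.Modules) :=
    fun a => hcoh (a.val + 1) (by omega)
  let F : Fin s.length → ℚ[X] := fun a => 𝐩 (s a.succ) - 𝐩 (s a.castSucc)
  have hFp : ∀ a, ShStab.IsHilbPoly k X L (factor s a) (F a) := fun a =>
    (cokernel_data (k := k) hL (hcast a) (hsucc a) (dim_sub hL hE hd (hsucc a)) _
      (hp_sub (k := k) hL hE hd (hcast a)) (hp_sub (k := k) hL hE hd (hsucc a))).2.2
  have hFα : ∀ a, 0 < alpha d (F a) := fun a =>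
    alpha_pos hL (hss a).1 (dim_of_isPure (hss a).2.2.1 (hss a).1 (hss a).2.1) (hFp a)
  -- later factors are smaller
  have hlt : ∀ n : ℕ, ∀ hn : n < s.length, i.val < n → RedLT d (F ⟨n, hn⟩) (F i) := by
    intro n
    induction n with
    | zero => intro _ h; omega
    | succ n ih =>
      intro hn hin
      have h1 := hdec ⟨n, Nat.lt_of_succ_lt hn⟩ ⟨n + 1, hn⟩ rfl _ _ (hFp _) (hFp _)
      rcases Nat.lt_or_ge i.val n with h | h
      · obtain ⟨N, hN⟩ := h1
        obtain ⟨N', hN'⟩ := ih (by omega) h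
        refine ⟨max N N', fun m hm => ?_⟩
        have a := mul_lt_mul_of_pos_left (hN m (le_trans (le_max_left _ _) hm)) (hFα i)
        have b := mul_lt_mul_of_pos_left (hN' m (le_trans (le_max_right _ _) hm)) (hFα ⟨n + 1, hn⟩)
        simp only [eval_smul, smul_eq_mul] at a b ⊢
        refine lt_of_mul_lt_mul_left ?_ (hFα ⟨n, by omega⟩).le
        linarith
      · obtain rfl : i = ⟨n, Nat.lt_of_succ_lt hn⟩ := Fin.ext (by simp only; omega)
        exact h1
  -- the comparison
  have main : ∀ n : ℕ, ∀ hn : n < s.length + 1, i.val < n → ∀ U : Subobject E, s i.castSucc ≤ U →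
      U ≤ s ⟨n, hn⟩ → Coh.IsCoh (U : X.Modules) → ∃ N : ℕ, ∀ m : ℕ, N ≤ m →
        alpha d (F i) * (𝐩 U - 𝐩 (s i.castSucc)).eval (m : ℚ) ≤
            alpha d (𝐩 U - 𝐩 (s i.castSucc)) * (F i).eval (m : ℚ) ∧
          (¬ U ≤ s i.succ → alpha d (F i) * (𝐩 U - 𝐩 (s i.castSucc)).eval (m : ℚ) <
            alpha d (𝐩 U - 𝐩 (s i.castSucc)) * (F i).eval (m : ℚ)) := by
    intro n
    induction n with
    | zero => intro _ h; omega
    | succ n ih =>
      intro hn hin U hSU hUT hU
      let j : Fin s.length := ⟨n, Nat.lt_of_succ_lt_succ hn⟩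
      change U ≤ s j.succ at hUT
      obtain ⟨K, W, w, π, hKc, -, hKS, hKeq, hw, hW, -, hpW, hW0⟩ :=
        image_quot (k := k) hL hE hd (hcast j) (hsucc j) hU (le_of_lt (s.step j)) hUT
      haveI := hw
      by_cases hz : IsZero W
      · rcases Nat.lt_or_ge i.val n with h | h
        · exact ih (by omega) h U hSU (hW0 hz) hU
        · obtain rfl : i = j := Fin.ext (show i.val = n by omega)
          obtain rfl : U = s j.castSucc := le_antisymm (hW0 hz) hSU
          exact ⟨0, fun m _ => ⟨by simp [alpha], fun hh => absurd (le_of_lt (s.step j)) hh⟩⟩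
      have hWα : 0 < alpha d (𝐩 U - 𝐩 K) :=
        alpha_pos hL hW ((hss j).2.2.1 W w hw hW hz) hpW
      have hWle : ∃ N : ℕ, ∀ m : ℕ, N ≤ m →
          alpha d (F j) * (𝐩 U - 𝐩 K).eval (m : ℚ) ≤ alpha d (𝐩 U - 𝐩 K) * (F j).eval (m : ℚ) := by
        by_cases hi : IsIso w
        · rw [show 𝐩 U - 𝐩 K = F j from isHilbPoly_unique (hilb_iso (asIso w) hpW) (hFp j)]
          exact ⟨0, fun m _ => le_rfl⟩
        · obtain ⟨N, hN⟩ := (hss j).2.2.2 W w hw hW hz hi _ _ hpW (hFp j)
          exact ⟨N, fun m hm => by simpa only [eval_smul, smul_eq_mul] using hN m hm⟩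
      obtain ⟨N, hN⟩ := hWle
      rcases Nat.lt_or_ge i.val n with h | h
      · have hSj : s i.castSucc ≤ s j.castSucc := s.monotone (by simp [j, Fin.le_def]; omega)
        have hSK : s i.castSucc ≤ K := hKeq _ hSU hSj
        obtain ⟨N', hN'⟩ := ih (by omega) h K hSK hKS hKc
        obtain ⟨N'', hN''⟩ := hlt n (by omega) h
        refine ⟨max N (max N' N''), fun m hm => ?_⟩
        simp only [max_le_iff] at hm
        have a := mul_le_mul_of_nonneg_left (hN m hm.1) (hFα i).le
        have b := mul_lt_mul_of_pos_left (hN'' m hm.2.2) hWα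
        have c := (hN' m hm.2.1).1
        simp only [eval_smul, smul_eq_mul] at b
        have e : alpha d (F i) * (𝐩 U - 𝐩 K).eval (m : ℚ) < alpha d (𝐩 U - 𝐩 K) * (F i).eval (m : ℚ) := by
          refine lt_of_mul_lt_mul_left ?_ (hFα j).le
          linarith
        simp only [eval_sub, alpha_sub] at c e ⊢
        exact ⟨by linarith, fun _ => by linarith⟩
      · obtain rfl : i = j := Fin.ext (show i.val = n by omega)
        rw [le_antisymm hKS (hKeq _ hSU le_rfl)] at hN
        exact ⟨N, fun m hm => ⟨hN m hm, fun hh => absurd hUT hh⟩⟩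
  refine ⟨s.step i, hsucc i, fun U hU hUc => ?_⟩
  obtain ⟨N, hN⟩ := main s.length (by omega) i.isLt U hU.le (by rw [show s ⟨s.length, _⟩ = s.last from rfl, hl]; exact le_top) hUc
  refine ⟨⟨N, fun m hm => by simpa only [eval_smul, smul_eq_mul] using (hN m hm).1⟩, fun heq => ?_⟩
  by_contra hle
  have a := (hN N le_rfl).2 hle
  have b := congrArg (Polynomial.eval (N : ℚ)) heq
  simp only [eval_smul, smul_eq_mul] at b
  exact absurd b a.ne

omit hd in
theorem HN_unique (hp' : ShStab.IsPure X E d) {s t : LTSeries (Subobject E)}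
    (hs : ShStab.IsHNFiltration k X L E d s) (ht : ShStab.IsHNFiltration k X L E d t) : s = t := by
  have hd := dim_le_of_isPure hp' hE
  have key : ∀ n : ℕ, ∀ (h1 : n < s.length + 1) (h2 : n < t.length + 1), s ⟨n, h1⟩ = t ⟨n, h2⟩ := by
    intro n
    induction n with
    | zero => intro _ _; show s.head = t.head; rw [hs.1, ht.1]
    | succ n ih =>
      intro h1 h2
      have a := step_of_HN hL hE hp' hs ⟨n, by omega⟩
      have b := step_of_HN hL hE hp' ht ⟨n, by omega⟩
      rw [show s (Fin.castSucc ⟨n, _⟩) = t (Fin.castSucc ⟨n, by omega⟩) from ih (by omega) (by omega)] at a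
      exact step_unique hL hE hd a b
  have hlen : ∀ {a b : LTSeries (Subobject E)}, a.last = ⊤ → b.last = ⊤ →
      (∀ n (h1 : n < a.length + 1) (h2 : n < b.length + 1), a ⟨n, h1⟩ = b ⟨n, h2⟩) → b.length ≤ a.length := by
    intro a b ha hb h
    by_contra hlt
    push Not at hlt
    have h1 : b ⟨a.length, by omega⟩ = ⊤ := (h a.length (by omega) (by omega)).symm.trans ha
    have h2 : b ⟨a.length, by omega⟩ < b ⟨b.length, by omega⟩ := b.strictMono (Fin.mk_lt_mk.2 hlt)
    rw [h1] at h2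
    exact not_top_lt h2
  refine RelSeries.ext (le_antisymm (hlen ht.2.1 hs.2.1 fun n h1 h2 => (key n h2 h1).symm)
    (hlen hs.2.1 ht.2.1 key)) (funext fun x => ?_)
  exact key x.val x.isLt _

end HN

end Groth.Agent.HilbPoly
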