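import Groth.Agent.HilbPoly.HN

/-!
# Morphisms between modules with Harder–Narasimhan filtrations
-/

set_option linter.style.haveILetI false
set_option linter.unusedSectionVars false
set_option backward.isDefEq.respectTransparency false
set_option backward.isDefEq.respectTransparency.types false

universe u

open CategoryTheory CategoryTheory.Limits AlgebraicGeometry Polynomial StabCat TopologicalSpace

noncomputable section

namespace Groth.Agent.HilbPoly

open Groth.Agent

variable {X : Scheme.{u}} {k : Type u} [Field k] [X.Over (Spec (CommRingCat.of k))]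
  [IsProper (X ↘ Spec (CommRingCat.of k))] {L : X.Modules} {d : ℕ} {E : X.Modules}

namespace HN

lemma redLT_trans {P Q R : ℚ[X]} (hQ : 0 < alpha d Q) (hP : 0 < alpha d P) (hR : 0 < alpha d R)
    (h₁ : RedLT d P Q) (h₂ : RedLT d Q R) : RedLT d P R :=
  redLT_trans_left hP hQ hR.le (redLE_of_redLT h₁) h₂

/-- Later factors have smaller reduced polynomials. -/
lemma redLT_of_lt (hL : CohB1.IsAmple L) {s : LTSeries (Subobject E)} (hs : ShStab.IsHNFiltration k X L E d s)
    {i j : Fin s.length} (hij : i < j) {p q : ℚ[X]} (hp : ShStab.IsHilbPoly k X L (factor s i) p)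
    (hq : ShStab.IsHilbPoly k X L (factor s j) q) : RedLT d q p := by
  obtain ⟨-, -, hss, hdec⟩ := hs
  have hα : ∀ (a : Fin s.length) {r : ℚ[X]}, ShStab.IsHilbPoly k X L (factor s a) r → 0 < alpha d r :=
    fun a r hr => alpha_pos hL (hss a).1 (dim_of_isPure (hss a).2.2.1 (hss a).1 (hss a).2.1) hr
  have main : ∀ n : ℕ, ∀ hn : n < s.length, i.val < n → ∀ q : ℚ[X],
      ShStab.IsHilbPoly k X L (factor s ⟨n, hn⟩) q → RedLT d q p := by
    intro n
    induction n with
    | zero => intro _ h; omega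
    | succ n ih =>
      intro hn hin q hq
      rcases Nat.lt_or_ge i.val n with h | h
      · obtain ⟨r, hr, -, -⟩ := exists_hilb (k := k) hL.1 (hss ⟨n, Nat.lt_of_succ_lt hn⟩).1
          (dim_le_of_isPure (hss ⟨n, Nat.lt_of_succ_lt hn⟩).2.2.1 (hss ⟨n, Nat.lt_of_succ_lt hn⟩).1)
        exact redLT_trans (hα _ hr) (hα _ hq) (hα _ hp) (hdec ⟨n, Nat.lt_of_succ_lt hn⟩ _ rfl r q hr hq)
          (ih _ h r hr)
      · exact hdec i _ (show i.val + 1 = n + 1 by omega) p q hp hq
  exact main j.val j.isLt hij q hq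

theorem hom_eq_zero_of_HN (hL : CohB1.IsAmple L) {F G : X.Modules} {s : LTSeries (Subobject F)}
    (hs : ShStab.IsHNFiltration k X L F d s) {t : LTSeries (Subobject G)}
    (ht : ShStab.IsHNFiltration k X L G d t) (i : Fin s.length) (hi : i.val + 1 = s.length)
    (j : Fin t.length) (hj : j.val = 0) {pmin pmax : ℚ[X]}
    (hpmin : ShStab.IsHilbPoly k X L (factor s i) pmin) (hpmax : ShStab.IsHilbPoly k X L (factor t j) pmax)
    (hlt : RedLT d pmax pmin) (φ : F ⟶ G) : φ = 0 := by
  have hex : ∀ {M : X.Modules}, ShStab.IsSemistable k X L M d →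
      ∃ r, ShStab.IsHilbPoly k X L M r ∧ 0 < alpha d r := fun {M} h => by
    obtain ⟨r, hr, -, -⟩ := exists_hilb (k := k) hL.1 h.1 (dim_le_of_isPure h.2.2.1 h.1)
    exact ⟨r, hr, alpha_pos hL h.1 (dim_of_isPure h.2.2.1 h.1 h.2.1) hr⟩
  obtain ⟨rmin, hrmin, hαmin⟩ := hex (hs.2.2.1 i)
  obtain rfl := isHilbPoly_unique hrmin hpmin
  obtain ⟨rmax, hrmax, hαmax⟩ := hex (ht.2.2.1 j)
  obtain rfl := isHilbPoly_unique hrmax hpmax
  -- every factor of `F` maps trivially to every factor of `G`
  have hzero : ∀ (a : Fin s.length) (b : Fin t.length) (ψ : factor s a ⟶ factor t b), ψ = 0 := by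
    intro a b ψ
    obtain ⟨pa, hpa, hαa⟩ := hex (hs.2.2.1 a)
    obtain ⟨pb, hpb, hαb⟩ := hex (ht.2.2.1 b)
    have h1 : RedLT d rmax pa := by
      rcases Nat.lt_or_ge a.val i.val with h | h
      · exact redLT_trans hαmin hαmax hαa hlt (redLT_of_lt hL hs (i := a) (j := i) h hpa hrmin)
      · obtain rfl : a = i := Fin.ext (by have := a.isLt; omega)
        rwa [isHilbPoly_unique hpa hrmin]
    have h2 : RedLT d pb pa := by
      rcases Nat.lt_or_ge j.val b.val with h | h
      · exact redLT_trans hαmax hαb hαa (redLT_of_lt hL ht (i := j) (j := b) h hrmax hpb) h1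
      · obtain rfl : b = j := Fin.ext (by omega)
        rwa [isHilbPoly_unique hpb hrmax]
    exact hom_eq_zero hL (hs.2.2.1 a) (ht.2.2.1 b) hpa hpb h2 ψ
  -- a factor of `F` maps trivially to `G`
  have hzero' : ∀ (a : Fin s.length) (n : ℕ) (hn : n < t.length + 1) (ψ : factor s a ⟶ (t ⟨n, hn⟩ : X.Modules)),
      ψ = 0 := by
    intro a n
    induction n with
    | zero =>
      intro hn ψ
      have hz : IsZero ((t ⟨0, hn⟩ : Subobject G) : X.Modules) := by
        rw [show t ⟨0, hn⟩ = ⊥ from ht.1]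
        exact (isZero_zero _).of_iso Subobject.botCoeIsoZero
      exact hz.eq_of_tgt _ _
    | succ n ih =>
      intro hn ψ
      let b : Fin t.length := ⟨n, Nat.lt_of_succ_lt_succ hn⟩
      have h := hzero a b (ψ ≫ cokernel.π (Subobject.ofLE (t b.castSucc) (t b.succ) (le_of_lt (t.step b))))
      rw [← Abelian.monoLift_comp _ _ h, ih _ (Abelian.monoLift _ _ h)]
      exact Limits.zero_comp
  -- the induction on `F`
  have main : ∀ n : ℕ, ∀ hn : n < s.length + 1, (s ⟨n, hn⟩).arrow ≫ φ = 0 := by
    intro n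
    induction n with
    | zero =>
      intro hn
      have hz : IsZero ((s ⟨0, hn⟩ : Subobject F) : X.Modules) := by
        rw [show s ⟨0, hn⟩ = ⊥ from hs.1]
        exact (isZero_zero _).of_iso Subobject.botCoeIsoZero
      exact hz.eq_of_src _ _
    | succ n ih =>
      intro hn
      let a : Fin s.length := ⟨n, Nat.lt_of_succ_lt_succ hn⟩
      have h : Subobject.ofLE (s a.castSucc) (s a.succ) (le_of_lt (s.step a)) ≫ (s a.succ).arrow ≫ φ = 0 := by
        rw [← Category.assoc, Subobject.ofLE_arrow]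
        exact ih _
      haveI : IsIso t.last.arrow := by rw [ht.2.1]; infer_instance
      have h' := hzero' a t.length (Nat.lt_succ_self _)
        (cokernel.desc _ _ h ≫ inv (t.last).arrow ≫ 𝟙 _)
      rw [Category.comp_id] at h'
      have hd : cokernel.desc _ _ h = 0 := by
        rw [← cancel_mono (inv (t.last).arrow), h', Limits.zero_comp]
      show (s a.succ).arrow ≫ φ = 0
      rw [← cokernel.π_desc _ _ h, hd, Limits.comp_zero]
  have h := main s.length (Nat.lt_succ_self _)
  rw [show s ⟨s.length, _⟩ = ⊤ from hs.2.1] at h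
  exact (cancel_epi (⊤ : Subobject F).arrow).1 (h.trans Limits.comp_zero.symm)

end HN

end Groth.Agent.HilbPoly
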